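import Mathlib

set_option autoImplicit false
universe u

open PowerSeries

namespace Groth.Agent.FS8

variable {O : Type u} [CommRing O]

theorem subst_const_add_X_mul {f : PowerSeries O} (hf : HasSubst f) (r : O) (c : PowerSeries O) :
    subst f (C r + X * c) = C r + f * subst f c := by
  rw [subst_add hf, subst_mul hf, subst_X hf, subst_C]
  rfl

/-- dropping the constant coefficient -/
noncomputable def shift (c : PowerSeries O) : PowerSeries O := mk fun j => coeff (j + 1) c

theorem eq_const_add_shift (c : PowerSeries O) : c = C (coeff 0 c) + X * shift c := by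
  ext j
  rcases j with _ | j
  · simp
  · simp [shift, coeff_succ_X_mul, coeff_C]

theorem free_of_divisor [IsLocalRing O] [IsAdicComplete (IsLocalRing.maximalIdeal O) O]
    {f : PowerSeries O} (h0 : constantCoeff f = 0) (hf : f.map (IsLocalRing.residue O) ≠ 0) (g : PowerSeries O) :
    ∃! c : Fin (f.map (IsLocalRing.residue O)).order.toNat → PowerSeries O,
      g = ∑ i : Fin _, subst f (c i) * X ^ (i : ℕ) := by
  classical
  set h := (f.map (IsLocalRing.residue O)).order.toNat
  have hs : HasSubst f := HasSubst.of_constantCoeff_zero' h0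
  let S : (Fin h → PowerSeries O) → PowerSeries O := fun c => ∑ i, subst f (c i) * X ^ (i : ℕ)
  let R : (Fin h → O) → Polynomial O := fun r => ∑ i, Polynomial.C (r i) * Polynomial.X ^ (i : ℕ)
  have hR : ∀ r : Fin h → O, ((R r : Polynomial O) : PowerSeries O) = ∑ i, C (r i) * X ^ (i : ℕ) := by
    intro r
    show Polynomial.coeToPowerSeries.ringHom (R r) = _
    simp only [R, map_sum, map_mul, map_pow, Polynomial.coeToPowerSeries.ringHom_apply, Polynomial.coe_C, Polynomial.coe_X]
  have hstep : ∀ c : Fin h → PowerSeries O,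
      S c = (R fun i => coeff 0 (c i) : PowerSeries O) + f * S fun i => shift (c i) := by
    intro c
    rw [hR, Finset.mul_sum, ← Finset.sum_add_distrib]
    refine Finset.sum_congr rfl fun i _ => ?_
    conv_lhs => rw [eq_const_add_shift (c i), subst_const_add_X_mul hs]
    ring
  have hRdeg : ∀ r : Fin h → O, (R r).degree < h := by
    intro r
    refine lt_of_le_of_lt (Polynomial.degree_sum_le _ _) ((Finset.sup_lt_iff (WithBot.bot_lt_coe _)).mpr fun i _ => ?_)
    exact lt_of_le_of_lt (Polynomial.degree_C_mul_X_pow_le _ _) (WithBot.coe_lt_coe.mpr i.2)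
  have huniq0 : ∀ (n : ℕ) (d : Fin h → PowerSeries O), S d = 0 → ∀ i, coeff n (d i) = 0 := by
    intro n
    induction n with
    | zero =>
      intro d hd i
      obtain ⟨-, hr⟩ := PowerSeries.IsWeierstrassDivision.eq_zero hf (q := S fun i => shift (d i)) (r := R fun i => coeff 0 (d i))
        ⟨hRdeg _, by rw [← hd, hstep d]; ring⟩
      have h2 := congrArg (fun P => Polynomial.coeff P (i : ℕ)) hr
      simp only [R, Polynomial.finsetSum_coeff, Polynomial.coeff_C_mul_X_pow, Polynomial.coeff_zero] at h2
      rw [Finset.sum_eq_single i (fun b _ hb => if_neg fun h => hb (Fin.ext h.symm)) (by simp), if_pos rfl] at h2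
      exact h2
    | succ n ih =>
      intro d hd i
      obtain ⟨hq, -⟩ := PowerSeries.IsWeierstrassDivision.eq_zero hf (q := S fun i => shift (d i)) (r := R fun i => coeff 0 (d i))
        ⟨hRdeg _, by rw [← hd, hstep d]; ring⟩
      have := ih _ hq i
      simpa [shift] using this
  let qs : ℕ → PowerSeries O := fun N => Nat.rec g (fun _ q => q /ʷ f) N
  let rs : ℕ → Polynomial O := fun N => qs N %ʷ f
  have hq : ∀ N, qs N = f * qs (N + 1) + (rs N : PowerSeries O) := fun N => eq_mul_weierstrassDiv_add_weierstrassMod _ hf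
  let cN : ℕ → Fin h → PowerSeries O := fun N i => mk fun j => (rs (N + j)).coeff (i : ℕ)
  have hcN : ∀ N i, shift (cN N i) = cN (N + 1) i := by
    intro N i
    ext j
    simp [shift, cN, show N + 1 + j = N + (j + 1) by omega]
  have hr : ∀ N, R (fun i => coeff 0 (cN N i)) = rs N := by
    intro N
    have hdeg : (rs N).degree < h := degree_weierstrassMod_lt _ _
    ext j
    simp only [R, Polynomial.finsetSum_coeff, Polynomial.coeff_C_mul_X_pow]
    by_cases hj : j < h
    · rw [Finset.sum_eq_single (⟨j, hj⟩ : Fin h) (fun b _ hb => if_neg fun h => hb (Fin.ext h.symm)) (by simp), if_pos rfl]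
      simp [cN]
    · rw [Finset.sum_eq_zero fun b _ => if_neg (by omega)]
      exact (Polynomial.coeff_eq_zero_of_degree_lt (hdeg.trans_le (WithBot.coe_le_coe.mpr (not_lt.mp hj)))).symm
  have hD : ∀ N, g - S (cN 0) = f ^ N * (qs N - S (cN N)) := by
    intro N
    induction N with
    | zero => simp [qs]
    | succ N ih =>
      rw [ih, hstep (cN N), hr, funext (hcN N), hq N, pow_succ]
      ring
  refine ⟨cN 0, ?_, fun d hd => ?_⟩
  · refine sub_eq_zero.mp (PowerSeries.ext fun n => ?_)
    show coeff n (g - S (cN 0)) = coeff n 0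
    obtain ⟨f', hf'⟩ := X_dvd_iff.mpr h0
    rw [hD (n + 1), map_zero, hf', mul_pow, mul_assoc, coeff_X_pow_mul', if_neg (by omega)]
  · have h1 : g = S (cN 0) := by
      refine sub_eq_zero.mp (PowerSeries.ext fun n => ?_)
      obtain ⟨f', hf'⟩ := X_dvd_iff.mpr h0
      rw [hD (n + 1), map_zero, hf', mul_pow, mul_assoc, coeff_X_pow_mul', if_neg (by omega)]
    change g = S d at hd
    have h2 : S (d - cN 0) = 0 := by
      have : S (d - cN 0) = S d - S (cN 0) := by
        show ∑ i, subst f ((d - cN 0) i) * X ^ (i : ℕ) = (∑ i, subst f (d i) * X ^ (i : ℕ)) - ∑ i, subst f (cN 0 i) * X ^ (i : ℕ)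
        rw [← Finset.sum_sub_distrib]
        refine Finset.sum_congr rfl fun i _ => ?_
        simp only [← coe_substAlgHom hs]
        rw [Pi.sub_apply, map_sub, sub_mul]
      rw [this, ← hd, ← h1, sub_self]
    funext i
    exact sub_eq_zero.mp (PowerSeries.ext fun n => by simpa using huniq0 n _ h2 i)

theorem free_iff [IsDomain O] [IsLocalRing O] [IsAdicComplete (IsLocalRing.maximalIdeal O) O]
    (f : PowerSeries O) (hf : HasSubst f) :
    (∃ n : ℕ, coeff n f ∉ IsLocalRing.maximalIdeal O) ↔
      ∃ (n : ℕ) (b : Fin n → PowerSeries O), ∀ g : PowerSeries O, ∃! c : Fin n → PowerSeries O,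
        g = ∑ i, subst f (c i) * b i := by
  have h0 : constantCoeff f = 0 := isNilpotent_iff_eq_zero.mp hf
  constructor
  · rintro ⟨n, hn⟩
    have hne : f.map (IsLocalRing.residue O) ≠ 0 := fun h => hn (by
      have := congrArg (coeff n) h
      rwa [coeff_map, map_zero, IsLocalRing.residue_eq_zero_iff] at this)
    exact ⟨_, fun i => X ^ (i : ℕ), free_of_divisor h0 hne⟩
  · rintro ⟨n, b, hb⟩
    by_contra! hall
    let π := PowerSeries.map (IsLocalRing.residue O)
    have hπf : π f = 0 := PowerSeries.ext fun j => by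
      rw [coeff_map, map_zero, IsLocalRing.residue_eq_zero_iff]; exact hall j
    have hspan : ∀ g, ∃ a : Fin n → IsLocalRing.ResidueField O, π g = ∑ i, C (a i) * π (b i) := by
      intro g
      obtain ⟨c, hc, -⟩ := hb g
      refine ⟨fun i => IsLocalRing.residue O (coeff 0 (c i)), ?_⟩
      rw [hc, map_sum]
      refine Finset.sum_congr rfl fun i _ => ?_
      rw [map_mul]
      congr 1
      conv_lhs => rw [eq_const_add_shift (c i), subst_const_add_X_mul hf]
      rw [map_add, map_mul, hπf, zero_mul, add_zero]
      exact PowerSeries.map_C _ _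
    let L : (Fin n → IsLocalRing.ResidueField O) →ₗ[IsLocalRing.ResidueField O] (Fin (n + 1) → IsLocalRing.ResidueField O) :=
      Fintype.linearCombination (IsLocalRing.ResidueField O) fun i => fun j : Fin (n + 1) => coeff (j : ℕ) (π (b i))
    have hsurj : Function.Surjective L := by
      intro v
      choose w hw using fun j => IsLocalRing.residue_surjective (v j)
      obtain ⟨a, ha⟩ := hspan (∑ j : Fin (n + 1), C (w j) * X ^ (j : ℕ))
      refine ⟨a, funext fun j => ?_⟩
      have h1 := congrArg (coeff (j : ℕ)) ha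
      simp only [map_sum, map_mul, map_pow, π, PowerSeries.map_C, PowerSeries.map_X, coeff_C_mul, coeff_X_pow, mul_ite, mul_one, mul_zero] at h1
      rw [Finset.sum_eq_single j (fun b _ hb => if_neg fun h => hb (Fin.ext h.symm)) (by simp), if_pos rfl, hw] at h1
      rw [h1]
      simp [L, π, Fintype.linearCombination_apply, Finset.sum_apply]
    have := LinearMap.finrank_le_finrank_of_surjective (f := L) hsurj
    simp at this

end Groth.Agent.FS8
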